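import Mathlib

/-!
Base change of modules over an algebra along field extensions: homomorphisms, irreducibility,
endomorphisms of absolutely irreducible modules.
-/

set_option autoImplicit false
set_option linter.style.haveILetI false
set_option linter.unusedSectionVars false
set_option backward.isDefEq.respectTransparency false
set_option backward.isDefEq.respectTransparency.types false

universe u v w w' u'

open TensorProduct

namespace Groth.Agent.DefModLib

section Coord

variable {K : Type u} [Field K] {P : Type u'} [AddCommGroup P] [Module K P]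
  {ι : Type*} (b : Module.Basis ι K P) (N : Type w) [AddCommGroup N] [Module K N]

/-- The coordinate of an element of `P ⊗ N` along a basis of `P`. -/
noncomputable def coordT (i : ι) : P ⊗[K] N →ₗ[K] N :=
  TensorProduct.lid K N ∘ₗ LinearMap.rTensor N (b.coord i)

variable {N}

@[simp] theorem coordT_tmul (i : ι) (p : P) (n : N) : coordT b N i (p ⊗ₜ n) = b.repr p i • n := by
  simp [coordT]

theorem exists_support (x : P ⊗[K] N) :
    ∃ s : Finset ι, (∀ i ∉ s, coordT b N i x = 0) ∧ x = ∑ i ∈ s, b i ⊗ₜ coordT b N i x := by
  classical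
  suffices h : ∃ s : Finset ι, ∀ t : Finset ι, s ⊆ t →
      (∀ i ∉ t, coordT b N i x = 0) ∧ x = ∑ i ∈ t, b i ⊗ₜ coordT b N i x by
    obtain ⟨s, hs⟩ := h
    exact ⟨s, hs s subset_rfl⟩
  induction x using TensorProduct.induction_on with
  | zero => exact ⟨∅, fun t _ => by simp⟩
  | tmul p n =>
    refine ⟨(b.repr p).support, fun t ht => ⟨fun i hi => ?_, ?_⟩⟩
    · have : b.repr p i = 0 := Finsupp.notMem_support_iff.1 fun h => hi (ht h)
      simp [this]
    · simp only [coordT_tmul, TensorProduct.tmul_smul, TensorProduct.smul_tmul', ← TensorProduct.sum_tmul]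
      congr 1
      conv_lhs => rw [← b.linearCombination_repr p]
      rw [Finsupp.linearCombination_apply]
      exact Finsupp.sum_of_support_subset _ ht _ (fun i _ => zero_smul K _)
  | add x y hx hy =>
    obtain ⟨s, hs⟩ := hx
    obtain ⟨s', hs'⟩ := hy
    refine ⟨s ∪ s', fun t ht => ⟨fun i hi => ?_, ?_⟩⟩
    · rw [map_add, (hs t (Finset.union_subset_left ht)).1 i hi,
        (hs' t (Finset.union_subset_right ht)).1 i hi, add_zero]
    · simp only [map_add, TensorProduct.tmul_add, Finset.sum_add_distrib]
      rw [← (hs t (Finset.union_subset_left ht)).2, ← (hs' t (Finset.union_subset_right ht)).2]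

theorem ext_coord {x y : P ⊗[K] N} (h : ∀ i, coordT b N i x = coordT b N i y) : x = y := by
  obtain ⟨s, -, hs⟩ := exists_support b (x - y)
  have h0 : ∀ i, coordT b N i (x - y) = 0 := fun i => by rw [map_sub, h i, sub_self]
  simpa [h0, sub_eq_zero] using hs

variable {M : Type w'} [AddCommGroup M] [Module K M]

theorem coordT_lTensor (i : ι) (g : N →ₗ[K] M) (x : P ⊗[K] N) :
    coordT b M i (g.lTensor P x) = g (coordT b N i x) := by
  induction x using TensorProduct.induction_on with
  | zero => simp
  | tmul p n => simp
  | add x y hx hy => simp [hx, hy]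

end Coord

variable {K : Type u} [Field K] {D : Type v} [Ring D] [Algebra K D]
  {E : Type w} [AddCommGroup E] [Module K E] [Module D E] [IsScalarTower K D E]

theorem hom_baseChange {F : Type w'} [AddCommGroup F] [Module K F] [Module D F] [IsScalarTower K D F]
    [Module.Finite D E] (P : Type u') [CommRing P] [Algebra K P]
    (Φ : P ⊗[K] (E →ₗ[D] F) →ₗ[P] (P ⊗[K] E →ₗ[P] P ⊗[K] F))
    (hΦ : ∀ (p : P) (f : E →ₗ[D] F), Φ (p ⊗ₜ[K] f) = p • (f.restrictScalars K).baseChange P) :
    Function.Injective Φ ∧ ∀ g : P ⊗[K] E →ₗ[P] P ⊗[K] F, g ∈ LinearMap.range Φ ↔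
      ∀ d : D, g ∘ₗ (DistribSMul.toLinearMap K E d).baseChange P =
        (DistribSMul.toLinearMap K F d).baseChange P ∘ₗ g := by
  classical
  let b := Module.Free.chooseBasis K P
  have key : ∀ (i : Module.Free.ChooseBasisIndex K P) (x : P ⊗[K] (E →ₗ[D] F)) (e : E),
      coordT b F i (Φ x (1 ⊗ₜ e)) = (coordT b (E →ₗ[D] F) i x) e := by
    intro i x e
    induction x using TensorProduct.induction_on with
    | zero => simp
    | tmul p f => simp [hΦ, TensorProduct.smul_tmul']
    | add x y hx hy => simp [hx, hy]
  refine ⟨fun x y hxy => ext_coord b fun i => LinearMap.ext fun e => ?_, fun g => ⟨?_, fun hg => ?_⟩⟩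
  · rw [← key, ← key, hxy]
  · rintro ⟨x, rfl⟩ d
    induction x using TensorProduct.induction_on with
    | zero => simp
    | tmul p f =>
      refine TensorProduct.AlgebraTensorModule.curry_injective ?_
      ext e
      simp [hΦ, TensorProduct.smul_tmul']
    | add x y hx hy =>
      rw [map_add, LinearMap.add_comp, LinearMap.comp_add, hx, hy]
  · have hg1 : ∀ (d : D) (e : E),
        g (1 ⊗ₜ (d • e)) = (DistribSMul.toLinearMap K F d).lTensor P (g (1 ⊗ₜ e)) := fun d e => by
      have := LinearMap.congr_fun (hg d) (1 ⊗ₜ e)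
      simpa [LinearMap.baseChange_eq_ltensor] using this
    let gi : Module.Free.ChooseBasisIndex K P → (E →ₗ[D] F) := fun i =>
      { toFun := fun e => coordT b F i (g (1 ⊗ₜ e))
        map_add' := fun e e' => by simp [TensorProduct.tmul_add]
        map_smul' := fun d e => by
          rw [hg1, coordT_lTensor]
          rfl }
    obtain ⟨s, hs⟩ := Module.Finite.fg_top (R := D) (M := E)
    choose T hT using fun e : E => exists_support b (g (1 ⊗ₜ e))
    let U := s.biUnion T
    have hgi : ∀ i ∉ U, gi i = 0 := by
      intro i hi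
      refine LinearMap.ext_on hs ?_
      intro e he
      exact (hT e).1 i fun h => hi (Finset.mem_biUnion.2 ⟨e, he, h⟩)
    refine ⟨∑ i ∈ U, b i ⊗ₜ gi i, ?_⟩
    refine TensorProduct.AlgebraTensorModule.curry_injective ?_
    ext e
    refine ext_coord b fun j => ?_
    have := key j (∑ i ∈ U, b i ⊗ₜ gi i) e
    simp only [TensorProduct.AlgebraTensorModule.curry_apply, LinearMap.coe_restrictScalars,
      TensorProduct.curry_apply] at *
    rw [this]
    simp only [map_sum, coordT_tmul, LinearMap.sum_apply, b.repr_self, Finsupp.single_apply,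
      LinearMap.smul_apply, ite_smul, one_smul, zero_smul, Finset.sum_ite_eq']
    split_ifs with h
    · rfl
    · exact (LinearMap.congr_fun (hgi j h) e).symm

variable (K D E) in
/-- The base change of `E` to `L` is nonzero and has no nontrivial subspace stable under `D`. -/
def IrredAt (L : Type u) [Field L] [Algebra K L] : Prop :=
  Nontrivial (L ⊗[K] E) ∧ ∀ N : Submodule L (L ⊗[K] E),
    (∀ (d : D) (x : L ⊗[K] E), x ∈ N → (DistribSMul.toLinearMap K E d).baseChange L x ∈ N) →
      N = ⊥ ∨ N = ⊤

theorem nontrivial_of_tensor {L : Type u'} [Field L] [Algebra K L] (h : Nontrivial (L ⊗[K] E)) :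
    Nontrivial E := by
  by_contra hE
  rw [not_nontrivial_iff_subsingleton] at hE
  exact not_subsingleton (L ⊗[K] E) inferInstance

theorem nontrivial_tensor [Nontrivial E] (L : Type u') [Field L] [Algebra K L] :
    Nontrivial (L ⊗[K] E) :=
  Function.Injective.nontrivial (f := fun e : E => (1 : L) ⊗ₜ[K] e)
    (Module.FaithfullyFlat.tensorProduct_mk_injective E)

theorem irredAt_of_injective {L M : Type u} [Field L] [Algebra K L] [Field M] [Algebra K M]
    (j : L →ₐ[K] M) (hM : IrredAt K D E M) : IrredAt K D E L := by
  letI := j.toRingHom.toAlgebra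
  haveI : IsScalarTower K L M := IsScalarTower.of_algebraMap_eq fun c => (j.commutes c).symm
  haveI := nontrivial_of_tensor hM.1
  refine ⟨nontrivial_tensor L, fun N hN => ?_⟩
  by_contra hNN
  rw [not_or] at hNN
  let J : L ⊗[K] E →ₗ[L] M ⊗[K] E :=
    TensorProduct.AlgebraTensorModule.map (Algebra.linearMap L M) LinearMap.id
  have hJ : Function.Injective J := by
    have hj : (J : L ⊗[K] E → M ⊗[K] E) = (j.toLinearMap).rTensor E := by
      funext x
      induction x using TensorProduct.induction_on with
      | zero => simp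
      | tmul a e =>
        have hja : algebraMap L M a = j a := rfl
        simp [J, hja]
      | add x y hx hy => simp [hx, hy]
    rw [hj]
    exact Module.Flat.rTensor_preserves_injective_linearMap _ j.injective
  obtain ⟨f, hfN, hf⟩ := Submodule.exists_dual_map_eq_bot_of_lt_top (lt_top_iff_ne_top.2 hNN.2)
    inferInstance
  let f' : M ⊗[K] E →ₗ[M] M := TensorProduct.AlgebraTensorModule.lift
    (LinearMap.smulRight (LinearMap.id (R := M) (M := M))
      ((Algebra.linearMap L M).restrictScalars K ∘ₗ f.restrictScalars K ∘ₗ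
        TensorProduct.mk K L E 1))
  have hf' : ∀ y, f' (J y) = algebraMap L M (f y) := by
    intro y
    induction y using TensorProduct.induction_on with
    | zero => simp
    | tmul a e =>
      have : f (a ⊗ₜ[K] e) = a * f (1 ⊗ₜ[K] e) := by
        rw [← smul_eq_mul, ← map_smul, TensorProduct.smul_tmul', smul_eq_mul, mul_one]
      simp [f', J, this, Algebra.smul_def]
    | add x y hx hy => simp [hx, hy]
  have hS : Submodule.span M (J '' N) ≤ LinearMap.ker f' := by
    refine Submodule.span_le.2 ?_
    rintro _ ⟨y, hy, rfl⟩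
    have : f y = 0 := by
      rw [← Submodule.mem_bot L, ← hf]
      exact Submodule.mem_map_of_mem hy
    simp [hf', this]
  have hstab : ∀ (d : D) (x : M ⊗[K] E), x ∈ Submodule.span M (J '' N) →
      (DistribSMul.toLinearMap K E d).baseChange M x ∈ Submodule.span M (J '' N) := by
    intro d x hx
    induction hx using Submodule.span_induction with
    | mem z hz =>
      obtain ⟨y, hy, rfl⟩ := hz
      refine Submodule.subset_span ⟨_, hN d y hy, ?_⟩
      clear hy
      induction y using TensorProduct.induction_on with
      | zero => simp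
      | tmul a e => simp [J]
      | add x y hx hy => simp [hx, hy]
    | zero => simp
    | add x y _ _ hx hy => rw [map_add]; exact add_mem hx hy
    | smul a x _ hx => rw [map_smul]; exact Submodule.smul_mem _ a hx
  rcases hM.2 (Submodule.span M (J '' N)) hstab with h | h
  · refine hNN.1 (eq_bot_iff.2 fun y hy => ?_)
    have : J y ∈ Submodule.span M (J '' N) := Submodule.subset_span ⟨y, hy, rfl⟩
    rw [h, Submodule.mem_bot] at this
    exact hJ (this.trans (map_zero J).symm)
  · rw [h] at hS
    apply hfN
    refine LinearMap.ext fun y => ?_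
    have := LinearMap.mem_ker.1 (hS (Submodule.mem_top (x := J y)))
    rw [hf'] at this
    exact (algebraMap L M).injective (this.trans (map_zero _).symm)

theorem irredAt_iff_forall_finiteDimensional :
    IrredAt K D E (AlgebraicClosure K) ↔
      ∀ (L : Type u) [Field L] [Algebra K L] [FiniteDimensional K L], IrredAt K D E L := by
  refine ⟨fun h L _ _ _ => irredAt_of_injective (IsAlgClosed.lift (M := AlgebraicClosure K)) h,
    fun h => ?_⟩
  haveI := nontrivial_of_tensor (h K).1
  refine ⟨nontrivial_tensor _, fun N hN => or_iff_not_imp_left.2 fun hN0 => ?_⟩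
  obtain ⟨x, hx, hx0⟩ := Submodule.exists_mem_ne_zero_of_ne_bot hN0
  obtain ⟨S, hS⟩ := TensorProduct.exists_finset x
  classical
  let L := IntermediateField.adjoin K ((S.image Prod.fst : Finset (AlgebraicClosure K)) :
    Set (AlgebraicClosure K))
  haveI : FiniteDimensional K L :=
    IntermediateField.finiteDimensional_adjoin fun a _ => Algebra.IsIntegral.isIntegral a
  let J : L ⊗[K] E →ₗ[L] AlgebraicClosure K ⊗[K] E :=
    TensorProduct.AlgebraTensorModule.map (Algebra.linearMap L (AlgebraicClosure K)) LinearMap.id
  let N₀ : Submodule L (L ⊗[K] E) := (N.restrictScalars L).comap J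
  let x₀ : L ⊗[K] E := ∑ p ∈ S.attach,
    (⟨p.1.1, IntermediateField.subset_adjoin K _ (Finset.mem_coe.2
      (Finset.mem_image_of_mem _ p.2))⟩ : L) ⊗ₜ p.1.2
  have hJx : J x₀ = x := by
    rw [hS, ← Finset.sum_attach S]
    simp [x₀, J]
  have hstab : ∀ (d : D) (y : L ⊗[K] E), y ∈ N₀ →
      (DistribSMul.toLinearMap K E d).baseChange L y ∈ N₀ := by
    intro d y hy
    change J _ ∈ N
    have : J ((DistribSMul.toLinearMap K E d).baseChange L y) =
        (DistribSMul.toLinearMap K E d).baseChange _ (J y) := by
      clear hy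
      induction y using TensorProduct.induction_on with
      | zero => simp
      | tmul a e => simp [J]
      | add x y hx hy => simp [hx, hy]
    rw [this]
    exact hN d _ hy
  rcases (h L).2 N₀ hstab with h0 | h0
  · refine absurd ?_ hx0
    have : x₀ ∈ N₀ := by
      change J x₀ ∈ N
      rwa [hJx]
    rw [h0, Submodule.mem_bot] at this
    rw [← hJx, this, map_zero]
  · rw [Submodule.eq_top_iff']
    intro y
    induction y using TensorProduct.induction_on with
    | zero => exact zero_mem _
    | add x y hx hy => exact add_mem hx hy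
    | tmul a e =>
      have : (1 : L) ⊗ₜ[K] e ∈ N₀ := by rw [h0]; exact Submodule.mem_top
      have h1 : (1 : AlgebraicClosure K) ⊗ₜ[K] e ∈ N := by
        have h2 : J (1 ⊗ₜ e) ∈ N := this
        simpa [J] using h2
      simpa [TensorProduct.smul_tmul'] using N.smul_mem a h1

theorem end_eq_smul [Module.Finite K (E →ₗ[D] E)]
    (habs : IrredAt K D E (AlgebraicClosure K)) (φ : E →ₗ[D] E) :
    ∃ c : K, ∀ x : E, φ x = c • x := by
  haveI := nontrivial_of_tensor habs.1
  let C := AlgebraicClosure K
  let ψ : Module.End C (C ⊗[K] E) := (φ.restrictScalars K).baseChange C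
  let φK : Module.End K E := φ.restrictScalars K
  have hint : IsIntegral K φK := by
    let res : Module.End D E →ₐ[K] Module.End K E :=
      { toFun := fun g => g.restrictScalars K
        map_one' := rfl
        map_mul' := fun _ _ => rfl
        map_zero' := rfl
        map_add' := fun _ _ => rfl
        commutes' := fun c => rfl }
    exact IsIntegral.map res (Algebra.IsIntegral.isIntegral (R := K) (φ : Module.End D E))
  have hψK : IsIntegral K ψ := by
    obtain ⟨q, hq, hq0⟩ := hint
    refine ⟨q, hq, ?_⟩
    let G := Module.End.baseChangeHom K C E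
    have := congrArg G.toRingHom hq0
    rw [Polynomial.hom_eval₂, map_zero] at this
    rwa [show (G.toRingHom.comp (algebraMap K (Module.End K E))) =
      algebraMap K (Module.End C (C ⊗[K] E)) from G.comp_algebraMap] at this
  have hψ : IsIntegral C ψ := hψK.tower_top
  obtain ⟨c, hc⟩ := IsAlgClosed.exists_root (minpoly C ψ) (minpoly.degree_pos hψ).ne'
  obtain ⟨r, hr⟩ := Polynomial.dvd_iff_isRoot.2 hc
  have hr0 : r ≠ 0 := fun h0 => minpoly.ne_zero hψ (by rw [hr, h0, mul_zero])
  have hrψ : Polynomial.aeval ψ r ≠ 0 := by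
    intro h0
    have := Polynomial.natDegree_le_of_dvd (minpoly.dvd C ψ h0) hr0
    rw [hr, Polynomial.natDegree_mul (Polynomial.X_sub_C_ne_zero c) hr0,
      Polynomial.natDegree_X_sub_C] at this
    omega
  obtain ⟨v, hv⟩ : ∃ v, Polynomial.aeval ψ r v ≠ 0 := by
    by_contra hcon
    push_neg at hcon
    exact hrψ (LinearMap.ext hcon)
  let N : Submodule C (C ⊗[K] E) := LinearMap.ker (ψ - algebraMap C (Module.End C (C ⊗[K] E)) c)
  have hvN : Polynomial.aeval ψ r v ∈ N := by
    have := minpoly.aeval C ψ
    rw [hr, map_mul, map_sub, Polynomial.aeval_X, Polynomial.aeval_C] at this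
    exact LinearMap.congr_fun this v
  have hstab : ∀ (d : D) (x : C ⊗[K] E), x ∈ N →
      (DistribSMul.toLinearMap K E d).baseChange C x ∈ N := by
    intro d x hx
    change (ψ - algebraMap C _ c) _ = 0
    have hcomm : (ψ - algebraMap C _ c) ((DistribSMul.toLinearMap K E d).baseChange C x) =
        (DistribSMul.toLinearMap K E d).baseChange C ((ψ - algebraMap C _ c) x) := by
      clear hx
      induction x using TensorProduct.induction_on with
      | zero => simp
      | tmul a e => simp [ψ, TensorProduct.smul_tmul']
      | add x y hx hy => simp only [map_add, hx, hy]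
    rw [hcomm, LinearMap.mem_ker.1 hx, map_zero]
  rcases habs.2 N hstab with h | h
  · rw [h, Submodule.mem_bot] at hvN
    exact absurd hvN hv
  · obtain ⟨x0, hx0⟩ := exists_ne (0 : E)
    obtain ⟨f, hf⟩ := Module.Projective.exists_dual_ne_zero K hx0
    have key : ∀ (g : E →ₗ[K] K) (x : E), algebraMap K C (g (φ x)) = c * algebraMap K C (g x) := by
      intro g x
      have h1 : (1 : C) ⊗ₜ[K] x ∈ N := by rw [h]; exact Submodule.mem_top
      have h2 : ψ ((1 : C) ⊗ₜ[K] x) = c • ((1 : C) ⊗ₜ[K] x) := by
        simpa [N, sub_eq_zero] using h1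
      have := congrArg (fun z => TensorProduct.AlgebraTensorModule.rid K C C
        (g.baseChange C z)) h2
      simpa [ψ, Algebra.smul_def, mul_comm] using this
    refine ⟨f (φ x0) / f x0, fun x => ?_⟩
    have hcc : algebraMap K C (f (φ x0) / f x0) = c := by
      rw [map_div₀, key, mul_div_cancel_right₀]
      simpa using hf
    refine sub_eq_zero.1 ((Module.forall_dual_apply_eq_zero_iff K _).1 fun g => ?_)
    apply (algebraMap K C).injective
    rw [map_sub, map_sub, key, map_smul, smul_eq_mul, map_mul, hcc, sub_self, map_zero]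

end Groth.Agent.DefModLib
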