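import Mathlib

/-!
Endomorphisms of deformations of a module with scalar endomorphisms over an Artinian local ring.
-/

set_option autoImplicit false
set_option linter.style.haveILetI false
set_option linter.unusedSectionVars false
set_option backward.isDefEq.respectTransparency false
set_option backward.isDefEq.respectTransparency.types false

universe u v w w'

open TensorProduct IsLocalRing

namespace Groth.Agent.DefModLib

variable {K : Type u} [Field K] {D : Type v} [Ring D] [Algebra K D]
  {E : Type w} [AddCommGroup E] [Module K E] [Module D E] [IsScalarTower K D E]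
  {R : Type u} [CommRing R] [IsLocalRing R] [Algebra K R]
  {F : Type w'} [AddCommGroup F] [Module R F] [Module D F] [SMulCommClass R D F] [SMulCommClass D R F]
  (res : R →ₐ[K] K) (θ : F →ₗ[D] E) (hθ : ∀ (r : R) (x : F), θ (r • x) = res r • θ x)

theorem sub_res_mem (r : R) : r - algebraMap K R (res r) ∈ maximalIdeal R := by
  by_contra h
  have := ((IsLocalRing.notMem_maximalIdeal.1 h).map res).ne_zero
  simp at this

theorem res_eq_zero {r : R} (hr : r ∈ maximalIdeal R) : res r = 0 := by
  by_contra h
  have h2 : r - algebraMap K R (res r) ∈ maximalIdeal R := sub_res_mem res r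
  have h1 : algebraMap K R (res r) ∈ maximalIdeal R := by
    have := sub_mem hr h2
    rwa [sub_sub_cancel] at this
  exact (mem_maximalIdeal _).1 h1 ((Ne.isUnit h).map (algebraMap K R))

theorem mkQ_smul {M : Type*} [AddCommGroup M] [Module R M] [Module K M] [IsScalarTower K R M]
    (r : R) (x : M) : r • x - res r • x ∈ maximalIdeal R • (⊤ : Submodule R M) := by
  rw [← algebraMap_smul R (res r) x, ← sub_smul]
  exact Submodule.smul_mem_smul (sub_res_mem res r) Submodule.mem_top

theorem exists_basis [IsNoetherianRing R] (I : Ideal R) :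
    ∃ (J : Type u) (_ : Fintype J) (a : J → I) (coef : J → (I →+ K)),
      (∀ j (r : R) (z : I), coef j (r • z) = res r * coef j z) ∧
      (∀ j i, coef j (a i) = (haveI := Classical.decEq J; if i = j then 1 else 0)) ∧
      (I ≠ ⊥ → Nonempty J) ∧
      ∀ z : I, (z : R) - ∑ j, algebraMap K R (coef j z) * (a j : R) ∈ maximalIdeal R * I := by
  classical
  let M := maximalIdeal R • (⊤ : Submodule R I)
  let W : Submodule K I := M.restrictScalars K
  have hWmk : ∀ (r : R) (z : I), W.mkQ (r • z) = res r • W.mkQ z := fun r z => by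
    rw [← LinearMap.map_smul]
    exact (Submodule.Quotient.eq W).2 (mkQ_smul res r z)
  have hcoe : ∀ z : I, z ∈ M → (z : R) ∈ maximalIdeal R * I := by
    intro z hz
    refine Submodule.smul_induction_on hz ?_ (fun x y hx hy => add_mem hx hy)
    intro r hr x _
    exact Ideal.mul_mem_mul hr x.2
  have hfin : Module.Finite K ((↥I) ⧸ W) := by
    obtain ⟨s, hs⟩ := (IsNoetherian.noetherian (⊤ : Submodule R I))
    refine ⟨⟨s.image W.mkQ, eq_top_iff.2 fun v _ => ?_⟩⟩
    obtain ⟨z, rfl⟩ := Submodule.mkQ_surjective W v
    have hz : z ∈ Submodule.span R (s : Set I) := by rw [hs]; exact Submodule.mem_top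
    induction hz using Submodule.span_induction with
    | mem x hx => exact Submodule.subset_span (Finset.mem_coe.2 (Finset.mem_image_of_mem _ hx))
    | zero => rw [map_zero]; exact zero_mem _
    | add x y _ _ hx hy => rw [map_add]; exact add_mem (hx Submodule.mem_top) (hy Submodule.mem_top)
    | smul r x _ hx => rw [hWmk]; exact Submodule.smul_mem _ _ (hx Submodule.mem_top)
  let b := Module.Free.chooseBasis K ((↥I) ⧸ W)
  choose a ha using fun j => Submodule.mkQ_surjective W (b j)
  refine ⟨_, inferInstance, a, fun j => ((b.coord j).comp W.mkQ).toAddMonoidHom,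
    fun j r z => ?_, fun j i => ?_, fun hI => ?_, fun z => ?_⟩
  · change b.coord j (W.mkQ (r • z)) = res r * b.coord j (W.mkQ z)
    rw [hWmk, map_smul, smul_eq_mul]
  · change b.coord j (W.mkQ (a i)) = _
    rw [ha, Module.Basis.coord_apply, b.repr_self, Finsupp.single_apply]
  · by_contra hJ
    rw [not_nonempty_iff] at hJ
    refine hI (Submodule.eq_bot_of_le_smul_of_le_jacobson_bot (maximalIdeal R) I
      (IsNoetherian.noetherian I) ?_ (IsLocalRing.maximalIdeal_le_jacobson _))
    intro z hz
    have h0 : W.mkQ ⟨z, hz⟩ = 0 := b.repr.injective (Finsupp.ext fun j => isEmptyElim j)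
    exact hcoe _ ((Submodule.Quotient.mk_eq_zero W).1 h0)
  · have hz : z - ∑ j, b.coord j (W.mkQ z) • a j ∈ W := by
      rw [← Submodule.Quotient.mk_eq_zero, ← Submodule.mkQ_apply, map_sub, map_sum, sub_eq_zero]
      simp only [LinearMap.map_smul, ha, Module.Basis.coord_apply, b.sum_repr]
    simpa [Algebra.smul_def] using hcoe _ hz

include hθ in
/-- Coordinates of `I F` along a basis of `I / m I`, read in `E`. -/
theorem exists_coords [IsNoetherianRing R] (I : Ideal R) :
    ∃ (J : Type u) (_ : Fintype J) (a : J → R) (μ : J → (I ⊗[R] F) →+ E),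
      (∀ j, a j ∈ I) ∧ (I ≠ ⊥ → Nonempty J) ∧
      (∀ (j : J) (d : D) (y : I ⊗[R] F),
        μ j ((DistribSMul.toLinearMap R F d).lTensor I y) = d • μ j y) ∧
      (∀ (j : J) (r : R) (y : I ⊗[R] F), μ j (r • y) = res r • μ j y) ∧
      (∀ (j i : J) (x : F) (hi : a i ∈ I), μ j (⟨a i, hi⟩ ⊗ₜ x) =
        (haveI := Classical.decEq J; if i = j then θ x else 0)) ∧
      ∀ y : I ⊗[R] F, ∃ w : J → F, (∀ j, θ (w j) = μ j y) ∧
        TensorProduct.lift ((LinearMap.lsmul R F).comp I.subtype) y - ∑ j, a j • w j ∈
          (maximalIdeal R * I) • (⊤ : Submodule R F) := by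
  classical
  obtain ⟨J, _, a, coef, coef_smul, coef_a, hne, hdec⟩ := exists_basis res I
  letI : Module R E := Module.compHom E res.toRingHom
  have hR : ∀ (r : R) (e : E), r • e = res r • e := fun _ _ => rfl
  let μ : J → (I ⊗[R] F) →ₗ[R] E := fun j =>
    TensorProduct.lift (LinearMap.mk₂ R (fun z x => coef j z • θ x)
      (fun z z' x => by rw [map_add, add_smul])
      (fun r z x => by rw [coef_smul, hR, mul_smul])
      (fun z x x' => by rw [map_add, smul_add])
      (fun r z x => by rw [hθ, hR, smul_comm]))
  have hμ : ∀ j z x, μ j (z ⊗ₜ x) = coef j z • θ x := fun _ _ _ => rfl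
  refine ⟨J, inferInstance, fun j => (a j : R), fun j => (μ j).toAddMonoidHom, fun j => (a j).2,
    hne, ?_, ?_, ?_, ?_⟩
  · intro j d y
    induction y using TensorProduct.induction_on with
    | zero => simp
    | tmul z x =>
      change coef j z • θ (d • x) = d • (coef j z • θ x)
      rw [map_smul, smul_comm]
    | add x y hx hy => simp only [map_add, smul_add, hx, hy]
  · intro j r y
    exact ((μ j).map_smul r y).trans (hR r _)
  · intro j i x hi
    change μ j ((a i) ⊗ₜ x) = _
    rw [hμ, coef_a]
    split_ifs <;> simp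
  · intro y
    induction y using TensorProduct.induction_on with
    | zero => exact ⟨0, fun j => by simp, by simp⟩
    | tmul z x =>
      refine ⟨fun j => algebraMap K R (coef j z) • x, fun j => ?_, ?_⟩
      · change θ (algebraMap K R (coef j z) • x) = μ j (z ⊗ₜ[R] x)
        rw [hμ, hθ, AlgHom.commutes, Algebra.algebraMap_self, RingHom.id_apply]
      · have h2 := Submodule.smul_mem_smul (hdec z) (Submodule.mem_top (x := x))
        rw [sub_smul, Finset.sum_smul] at h2
        simp only [smul_smul, mul_comm ((a _ : R))]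
        exact h2
    | add y y' hy hy' =>
      obtain ⟨w, hw, hw'⟩ := hy
      obtain ⟨v, hv, hv'⟩ := hy'
      refine ⟨w + v, fun j => by simp [hw j, hv j], ?_⟩
      have := add_mem hw' hv'
      convert this using 1
      simp only [map_add, Pi.add_apply, smul_add, Finset.sum_add_distrib]
      abel

include hθ in
theorem existsUnique_smul [IsArtinianRing R] [Module.Flat R F] [Nontrivial E]
    (hE : ∀ ψ : E →ₗ[D] E, ∃ c : K, ∀ y : E, ψ y = c • y) (hsurj : Function.Surjective θ)
    (hker : ∀ x : F, θ x = 0 ↔ x ∈ maximalIdeal R • (⊤ : Submodule R F))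
    (φ : F →ₗ[R] F) (hφ : ∀ (d : D) (x : F), φ (d • x) = d • φ x) :
    ∃! r : R, ∀ x : F, φ x = r • x := by
  classical
  have hflat : ∀ I : Ideal R,
      Function.Injective (TensorProduct.lift ((LinearMap.lsmul R F).comp I.subtype)) := fun I =>
    Module.Flat.iff_lift_lsmul_comp_subtype_injective.1 inferInstance (I := I) (IsNoetherian.noetherian I)
  have step : ∀ n : ℕ, ∃ r : R, ∀ x : F,
      φ x - r • x ∈ (maximalIdeal R ^ n) • (⊤ : Submodule R F) := by
    intro n
    induction n with
    | zero => exact ⟨0, fun x => by simp⟩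
    | succ n ih =>
      obtain ⟨r, hr⟩ := ih
      let I : Ideal R := maximalIdeal R ^ n
      let tm := TensorProduct.lift ((LinearMap.lsmul R F).comp I.subtype)
      have hrange : ∀ y, y ∈ (I • (⊤ : Submodule R F)) → y ∈ LinearMap.range tm := by
        intro y hy
        refine Submodule.smul_induction_on hy ?_ (fun _ _ => add_mem)
        exact fun s hs x _ => ⟨(⟨s, hs⟩ : I) ⊗ₜ x, rfl⟩
      choose g hg using fun x => hrange _ (hr x)
      have g_eq : ∀ {x : F} {y : I ⊗[R] F}, tm y = φ x - r • x → g x = y := fun {x y} h =>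
        hflat I ((hg x).trans h.symm)
      have htd : ∀ (d : D) y, tm ((DistribSMul.toLinearMap R F d).lTensor I y) = d • tm y := by
        intro d y
        induction y using TensorProduct.induction_on with
        | zero => simp
        | tmul z x => exact smul_comm (z : R) d x
        | add x y hx hy => simp only [map_add, smul_add, hx, hy]
      have gadd : ∀ x y, g (x + y) = g x + g y := fun x y => g_eq (by
        rw [map_add, hg, hg, map_add, smul_add]; abel)
      have gd : ∀ (d : D) x, g (d • x) = (DistribSMul.toLinearMap R F d).lTensor I (g x) :=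
        fun d x => g_eq (by rw [htd, hg, hφ, smul_sub, smul_comm r d x])
      have gr : ∀ (s : R) x, g (s • x) = s • g x := fun s x =>
        g_eq (by rw [map_smul, hg, map_smul, smul_sub, smul_comm r s x])
      obtain ⟨J, _, a, μ, ha, -, hμd, hμr, hμa, hdec⟩ := exists_coords res θ hθ I
      have hc : ∀ j, ∃ c : K, ∀ x, μ j (g x) = c • θ x := by
        intro j
        let gg : F →+ E := (μ j).comp (AddMonoidHom.mk' g gadd)
        have hgg : ∀ x, θ x = 0 → gg x = 0 := by
          intro x hx
          refine Submodule.smul_induction_on ((hker x).1 hx) ?_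
            (fun a b ha hb => by rw [map_add, ha, hb, add_zero])
          intro s hs y _
          change μ j (g (s • y)) = 0
          rw [gr, hμr, res_eq_zero res hs, zero_smul]
        have hwd : ∀ x y, θ x = θ y → gg x = gg y := fun x y h =>
          sub_eq_zero.1 (by rw [← map_sub]; exact hgg _ (by rw [map_sub, h, sub_self]))
        choose sec hsec using hsurj
        let ψ : E →ₗ[D] E :=
          { toFun := fun e => gg (sec e)
            map_add' := fun e e' => by
              rw [← map_add]; exact hwd _ _ (by rw [map_add, hsec, hsec, hsec])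
            map_smul' := fun d e => by
              rw [hwd (sec (d • e)) (d • sec e) (by rw [map_smul, hsec, hsec])]
              change μ j (g (d • sec e)) = d • μ j (g (sec e))
              rw [gd, hμd] }
        obtain ⟨c, hc⟩ := hE ψ
        exact ⟨c, fun x => by
          rw [← hc (θ x)]; exact hwd _ _ (hsec (θ x)).symm⟩
      choose c hc using hc
      refine ⟨r + ∑ j, algebraMap K R (c j) * a j, fun x => ?_⟩
      obtain ⟨w, hw, hw'⟩ := hdec (g x)
      have hmul : maximalIdeal R * I = maximalIdeal R ^ (n + 1) := (pow_succ' _ _).symm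
      rw [hg x, hmul] at hw'
      have hterm : ∑ j, a j • w j - (∑ j, algebraMap K R (c j) * a j) • x ∈
          (maximalIdeal R ^ (n + 1)) • (⊤ : Submodule R F) := by
        rw [Finset.sum_smul, ← Finset.sum_sub_distrib]
        refine Submodule.sum_mem _ fun j _ => ?_
        rw [mul_comm, mul_smul, ← smul_sub, pow_succ, ← smul_eq_mul, Submodule.smul_assoc]
        refine Submodule.smul_mem_smul (ha j) ((hker _).1 ?_)
        rw [map_sub, hθ, AlgHom.commutes, hw, hc, Algebra.algebraMap_self, RingHom.id_apply, sub_self]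
      have := add_mem hw' hterm
      convert this using 1
      rw [add_smul]; abel
  obtain ⟨N, hN⟩ := (IsArtinianRing.isNilpotent_jacobson_bot (R := R))
  rw [IsLocalRing.jacobson_eq_maximalIdeal ⊥ bot_ne_top] at hN
  obtain ⟨r, hr⟩ := step N
  have hr' : ∀ x, φ x = r • x := fun x => by
    have := hr x
    rwa [hN, Ideal.zero_eq_bot, Submodule.bot_smul, Submodule.mem_bot, sub_eq_zero] at this
  refine ⟨r, hr', fun r' hr'' => ?_⟩
  by_contra hne
  let s := r' - r
  obtain ⟨J, _, a, μ, ha, hJ, -, -, hμa, -⟩ := exists_coords res θ hθ (Ideal.span {s})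
  obtain ⟨j⟩ := hJ (by
    rw [Ne, Ideal.span_singleton_eq_bot]
    exact sub_ne_zero.2 hne)
  obtain ⟨e, he⟩ := exists_ne (0 : E)
  obtain ⟨x, rfl⟩ := hsurj e
  have h0 : ((⟨a j, ha j⟩ : Ideal.span {s}) ⊗ₜ[R] x) = 0 := by
    refine hflat _ ?_
    rw [map_zero]
    change a j • x = 0
    obtain ⟨q, hq⟩ := Ideal.mem_span_singleton'.1 (ha j)
    rw [← hq, mul_smul, sub_smul, ← hr' x, ← hr'' x, sub_self, smul_zero]
  apply he
  have := hμa j j x (ha j)
  rw [h0, map_zero] at this
  simpa using this.symm

end Groth.Agent.DefModLib
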