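import Mathlib

/-!
Derivations of a ring of differential operators `O[∂]` into a bimodule of endomorphisms.
-/

set_option autoImplicit false
set_option linter.style.haveILetI false
set_option linter.unusedSectionVars false

universe u v w x

open TrivSqZeroExt

namespace Groth.Agent.DefModLib

variable {K : Type u} [Field K] {O : Type v} [CommRing O] [Algebra K O] (δ : Derivation K O O)
  {D : Type w} [Ring D] [Algebra K D] (ι : O →ₐ[K] D) (d : D)
  (hd : ∀ f : O, d * ι f = ι f * d + ι (δ f))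
  (hbasis : Function.Bijective (fun c : ℕ →₀ O => c.sum (fun i f => ι f * d ^ i)))
  {T : Type x} [Ring T] [Algebra K T]

include hd hbasis in
/-- The universal property of `O[∂]`. -/
theorem diffOp_exists_hom (φ : O →ₐ[K] T) (Δ : T) (h : ∀ f, Δ * φ f = φ f * Δ + φ (δ f)) :
    ∃ Φ : D →ₐ[K] T, (∀ f, Φ (ι f) = φ f) ∧ Φ d = Δ := by
  classical
  let B : (ℕ →₀ O) →ₗ[K] D :=
    Finsupp.lsum K fun i => (LinearMap.mulRight K (d ^ i)) ∘ₗ ι.toLinearMap
  have hB : Function.Bijective B := hbasis
  let e := LinearEquiv.ofBijective B hB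
  let Φ : D →ₗ[K] T :=
    (Finsupp.lsum K fun i => (LinearMap.mulRight K (Δ ^ i)) ∘ₗ φ.toLinearMap) ∘ₗ e.symm.toLinearMap
  have hB1 : ∀ f i, e (Finsupp.single i f) = ι f * d ^ i := fun f i => by simp [e, B]
  have h1 : ∀ f i, Φ (ι f * d ^ i) = φ f * Δ ^ i := fun f i => by
    rw [← hB1]
    simp [Φ]
  have hind : ∀ {p : D → Prop}, p 0 → (∀ a b, p a → p b → p (a + b)) →
      (∀ f i, p (ι f * d ^ i)) → ∀ P, p P := by
    intro p h0 hadd hm P
    obtain ⟨c, rfl⟩ := e.surjective P
    induction c using Finsupp.induction_linear with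
    | zero => rwa [map_zero]
    | add a b ha hb => rw [map_add]; exact hadd _ _ ha hb
    | single i f => rw [hB1]; exact hm f i
  have hl : ∀ g P, Φ (ι g * P) = φ g * Φ P := fun g => hind (by simp)
    (fun a b ha hb => by rw [mul_add, map_add, ha, hb, map_add, mul_add])
    (fun f i => by rw [← mul_assoc, ← map_mul, h1, h1, map_mul, mul_assoc])
  have hdl : ∀ P, Φ (d * P) = Δ * Φ P := hind (by simp)
    (fun a b ha hb => by rw [mul_add, map_add, ha, hb, map_add, mul_add])
    (fun f i => by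
      rw [← mul_assoc, hd, add_mul, mul_assoc, ← pow_succ', map_add, h1, h1, h1, ← mul_assoc Δ, h,
        add_mul, mul_assoc, ← pow_succ'])
  have hone : Φ 1 = 1 := by simpa using h1 1 0
  have hmul : ∀ P Q, Φ (P * Q) = Φ P * Φ Q := by
    intro P Q
    revert P
    refine hind (by simp) (fun a b ha hb => by rw [add_mul, map_add, ha, hb, map_add, add_mul])
      fun f i => ?_
    rw [mul_assoc, hl, h1, mul_assoc]
    congr 1
    induction i with
    | zero => simp
    | succ i ih => rw [pow_succ', mul_assoc, hdl, ih, ← mul_assoc, ← pow_succ']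
  exact ⟨AlgHom.ofLinearMap Φ hone hmul, fun f => by simpa using h1 f 0, by simpa using h1 1 1⟩

include hbasis in
theorem diffOp_hom_ext (Φ Ψ : D →ₐ[K] T) (h1 : ∀ f, Φ (ι f) = Ψ (ι f)) (h2 : Φ d = Ψ d) :
    Φ = Ψ := by
  ext P
  obtain ⟨c, rfl⟩ := hbasis.2 P
  simp only [map_finsuppSum, map_mul, map_pow, h1, h2]

variable {E : Type x} [AddCommGroup E] [Module K E] (ρ : D →ₐ[K] Module.End K E)

/-- The graph of a derivation as an algebra map to the trivial extension. -/
noncomputable def derivHom (s : D →ₗ[K] Module.End K E)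
    (hs : ∀ P Q : D, s (P * Q) = s P * ρ Q + ρ P * s Q) :
    D →ₐ[K] TrivSqZeroExt (Module.End K E) (Module.End K E) :=
  AlgHom.ofLinearMap
    { toFun := fun P => inl (ρ P) + inr (s P)
      map_add' := fun P Q => by ext <;> simp
      map_smul' := fun c P => by ext <;> simp }
    (by
      have h1 : s 1 = 0 := by simpa using hs 1 1
      ext <;> simp [h1])
    (fun P Q => by ext <;> simp [hs, add_comm])

include hd hbasis in
theorem existsUnique_derivation :
    (∀ s : D →ₗ[K] Module.End K E, (∀ P Q : D, s (P * Q) = s P * ρ Q + ρ P * s Q) → ∀ f : O,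
      (s (ι f) * ρ d - ρ d * s (ι f)) + (ρ (ι f) * s d - s d * ρ (ι f)) + s (ι (δ f)) = 0) ∧
    ∀ (r : O →ₗ[K] Module.End K E) (v : Module.End K E),
      (∀ f g : O, r (f * g) = r f * ρ (ι g) + ρ (ι f) * r g) →
      (∀ f : O, (r f * ρ d - ρ d * r f) + (ρ (ι f) * v - v * ρ (ι f)) + r (δ f) = 0) →
      ∃! s : D →ₗ[K] Module.End K E,
        (∀ P Q : D, s (P * Q) = s P * ρ Q + ρ P * s Q) ∧ s ∘ₗ ι.toLinearMap = r ∧ s d = v := by
  refine ⟨fun s hs f => ?_, fun r v hr hv => ?_⟩
  · have h := congrArg s (hd f)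
    rw [map_add, hs, hs] at h
    have h2 := sub_eq_zero.2 h.symm
    rw [← h2]; abel
  let φ : O →ₐ[K] TrivSqZeroExt (Module.End K E) (Module.End K E) :=
    AlgHom.ofLinearMap
      { toFun := fun f => inl (ρ (ι f)) + inr (r f)
        map_add' := fun f g => by ext <;> simp
        map_smul' := fun c f => by ext <;> simp }
      (by
        have h1 : r 1 = 0 := by simpa using hr 1 1
        ext <;> simp [h1])
      (fun f g => by ext <;> simp [hr, add_comm])
  have hφ : ∀ f, φ f = inl (ρ (ι f)) + inr (r f) := fun _ => rfl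
  let Δ : TrivSqZeroExt (Module.End K E) (Module.End K E) := inl (ρ d) + inr v
  obtain ⟨Φ, hΦι, hΦd⟩ := diffOp_exists_hom δ ι d hd hbasis φ Δ (fun f => by
    apply TrivSqZeroExt.ext
    · simpa [hφ, Δ] using congrArg ρ (hd f)
    · simp only [hφ, Δ, fst_add, fst_inl, fst_inr, add_zero, snd_mul, snd_add, snd_inl, snd_inr,
        zero_add, smul_eq_mul, MulOpposite.smul_eq_mul_unop, MulOpposite.unop_op]
      exact sub_eq_zero.1 (by rw [← neg_zero, ← hv f]; abel))
  have hfst : ∀ P, (Φ P).fst = ρ P := by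
    have := diffOp_hom_ext ι d hbasis ((TrivSqZeroExt.fstHom K (Module.End K E) (Module.End K E)).comp Φ) ρ
      (fun f => by simp [hΦι, hφ]) (by simp [hΦd, Δ])
    exact fun P => AlgHom.congr_fun this P
  let s : D →ₗ[K] Module.End K E :=
    { toFun := fun P => (Φ P).snd
      map_add' := fun P Q => by simp
      map_smul' := fun c P => by simp }
  have hsL : ∀ P Q : D, s (P * Q) = s P * ρ Q + ρ P * s Q := fun P Q => by
    change (Φ (P * Q)).snd = _
    rw [map_mul, snd_mul, hfst, hfst, smul_eq_mul, MulOpposite.smul_eq_mul_unop,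
      MulOpposite.unop_op, add_comm]
    rfl
  refine ⟨s, ⟨hsL, LinearMap.ext fun f => ?_, ?_⟩, ?_⟩
  · simp [s, hΦι, hφ]
  · simp [s, hΦd, Δ]
  · rintro s' ⟨h1, h2, h3⟩
    have : derivHom ρ s' h1 = derivHom ρ s hsL := by
      refine diffOp_hom_ext ι d hbasis _ _ (fun f => ?_) ?_
      · have : s' (ι f) = r f := LinearMap.congr_fun h2 f
        ext <;> simp [derivHom, s, this, hΦι, hφ]
      · ext <;> simp [derivHom, s, h3, hΦd, Δ]
    refine LinearMap.ext fun P => ?_
    simpa [derivHom] using congrArg TrivSqZeroExt.snd (AlgHom.congr_fun this P)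

end Groth.Agent.DefModLib
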